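/-
Three-transposition sets whose local graph is a triangle of `S₃`.
-/
import Cfsg.Agent.Lib.Perm.Groups.CoxeterSym
import Cfsg.Agent.Lib.Coprime.Core
import Cfsg.Prelude.Def_SporadicB
import Mathlib

set_option autoImplicit false

namespace CfsgLib.Invol.LocalSymThree


theorem perm_three_facts : ∀ p q : Equiv.Perm (Fin 3), p * p = 1 → q * q = 1 → p ≠ 1 → q ≠ 1 → p ≠ q →
    p * q ≠ q * p ∧ ∀ r, r * r = 1 → r ≠ 1 → r = p ∨ r = q ∨ r = p * q * p := by decide +kernel

theorem perm_three_center : ∀ r : Equiv.Perm (Fin 3), (∀ s, r * s = s * r) → r = 1 := by decide +kernel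

variable {G : Type*} [Group G]

/-- The other members commuting with `d`. -/
def Nd (D : Set G) (d : G) : Set G := {y | y ∈ D ∧ y ≠ d ∧ Commute d y}

/-- The hypotheses. -/
structure Loc (D : Set G) : Prop where
  set : Cfsg.IsThreeTranspositionSet D
  conj : ∀ g : G, ∀ d ∈ D, g * d * g⁻¹ ∈ D
  loc : ∀ d ∈ D, Nonempty (↥(Subgroup.closure (Nd D d)) ≃* Equiv.Perm (Fin 3))

namespace Loc

variable {D : Set G} (h : Loc D)

include h

theorem sq {x : G} (hx : x ∈ D) : x * x = 1 := by rw [← pow_two, ← h.set.1 x hx, pow_orderOf_eq_one]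

theorem inv_eq {x : G} (hx : x ∈ D) : x⁻¹ = x := inv_eq_of_mul_eq_one_right (h.sq hx)

theorem ne_one {x : G} (hx : x ∈ D) : x ≠ 1 := fun e => by
  have := h.set.1 x hx
  rw [e, orderOf_one] at this
  omega

theorem cube {x y : G} (hx : x ∈ D) (hy : y ∈ D) (hc : ¬ Commute x y) : (x * y) ^ 3 = 1 := by
  refine (h.set.2 x hx y hy).resolve_left fun e => hc ?_
  rw [pow_two] at e
  have h1 := inv_eq_of_mul_eq_one_right e
  rw [mul_inv_rev, h.inv_eq hx, h.inv_eq hy] at h1
  exact h1.symm

theorem braid {x y : G} (hx : x ∈ D) (hy : y ∈ D) (hc : ¬ Commute x y) : x * y * x = y * x * y := by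
  have e := h.cube hx hy hc
  calc x * y * x = (x * y) ^ 3 * (y⁻¹ * x⁻¹ * y⁻¹) := by simp only [pow_succ, pow_zero, one_mul]; group
    _ = y * x * y := by rw [e, one_mul, h.inv_eq hx, h.inv_eq hy]

theorem conjD {x y : G} (hx : x ∈ D) (hy : y ∈ D) : x * y * x ∈ D := by
  have := h.conj x y hy
  rwa [h.inv_eq hx] at this

omit h in
theorem nd_symm {x y : G} (hx : x ∈ D) (hy : y ∈ Nd D x) : x ∈ Nd D y := ⟨hx, hy.2.1.symm, hy.2.2.symm⟩

theorem nd_conj (g : G) {x y : G} (hy : y ∈ Nd D x) : g * y * g⁻¹ ∈ Nd D (g * x * g⁻¹) :=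
  ⟨h.conj g y hy.1, fun e => hy.2.1 (by simpa using e), by
    have := hy.2.2
    show g * x * g⁻¹ * (g * y * g⁻¹) = g * y * g⁻¹ * (g * x * g⁻¹)
    calc g * x * g⁻¹ * (g * y * g⁻¹) = g * (x * y) * g⁻¹ := by group
      _ = g * (y * x) * g⁻¹ := by rw [this.eq]
      _ = _ := by group⟩

theorem nd_conj_eq (g : G) {x y : G} (e : Nd D x = Nd D y) : Nd D (g * x * g⁻¹) = Nd D (g * y * g⁻¹) := by
  have key : ∀ {u v : G}, Nd D u = Nd D v → Nd D (g * u * g⁻¹) ⊆ Nd D (g * v * g⁻¹) := by
    intro u v e w hw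
    have h1 := h.nd_conj g⁻¹ hw
    rw [show g⁻¹ * (g * u * g⁻¹) * g⁻¹⁻¹ = u by group, e] at h1
    have h2 := h.nd_conj g h1
    rwa [show g * (g⁻¹ * w * g⁻¹⁻¹) * g⁻¹ = w by group] at h2
  exact Set.Subset.antisymm (key e) (key e.symm)

theorem tri {d x y : G} (hd : d ∈ D) (hx : x ∈ Nd D d) (hy : y ∈ Nd D d) (hxy : x ≠ y) :
    ¬ Commute x y ∧ ∀ t ∈ Nd D d, t = x ∨ t = y ∨ t = x * y * x := by
  obtain ⟨e⟩ := h.loc d hd
  let i : ∀ t, t ∈ Nd D d → Subgroup.closure (Nd D d) := fun t ht => ⟨t, Subgroup.subset_closure ht⟩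
  have inv2 : ∀ t (ht : t ∈ Nd D d), e (i t ht) * e (i t ht) = 1 ∧ e (i t ht) ≠ 1 := fun t ht => by
    refine ⟨?_, fun e1 => h.ne_one ht.1 ?_⟩
    · rw [← map_mul, show i t ht * i t ht = 1 from Subtype.ext (h.sq ht.1), map_one]
    · exact congrArg Subtype.val (e.injective (e1.trans (map_one e).symm))
  obtain ⟨hn, hall⟩ := perm_three_facts _ _ (inv2 x hx).1 (inv2 y hy).1 (inv2 x hx).2 (inv2 y hy).2
    fun e1 => hxy (congrArg Subtype.val (e.injective e1))
  refine ⟨fun hc => hn ?_, fun t ht => ?_⟩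
  · rw [← map_mul, ← map_mul]
    exact congrArg e (Subtype.ext hc.eq)
  · rcases hall _ (inv2 t ht).1 (inv2 t ht).2 with e1 | e1 | e1
    · exact Or.inl (congrArg Subtype.val (e.injective e1))
    · exact Or.inr (Or.inl (congrArg Subtype.val (e.injective e1)))
    · refine Or.inr (Or.inr ?_)
      rw [← map_mul, ← map_mul] at e1
      exact congrArg Subtype.val (e.injective e1)

theorem exists_pair {d : G} (hd : d ∈ D) : ∃ x ∈ Nd D d, ∃ y ∈ Nd D d, x ≠ y := by
  obtain ⟨e⟩ := h.loc d hd
  by_contra hc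
  push Not at hc
  have hcomm : ∀ u v : Subgroup.closure (Nd D d), u * v = v * u := by
    haveI : IsMulCommutative (Subgroup.closure (Nd D d)) :=
      Subgroup.isMulCommutative_closure (fun a ha b hb => by rw [hc a ha b hb])
    exact fun u v => mul_comm' u v
  have := hcomm (e.symm (Equiv.swap 0 1)) (e.symm (Equiv.swap 1 2))
  rw [← map_mul, ← map_mul] at this
  exact absurd (e.symm.injective this) (by decide)

/-- Two members with the same commuting set lie in one triangle, whose members all share it. -/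
theorem line {x y a : G} (hx : x ∈ D) (hy : y ∈ D) (hxy : x ≠ y) (he : Nd D x = Nd D y) (ha : a ∈ Nd D x) :
    x ∈ Nd D a ∧ y ∈ Nd D a ∧ ∀ t ∈ Nd D a, Nd D t = Nd D x := by
  have hxa := nd_symm hx ha
  have hya := nd_symm hy (he ▸ ha : a ∈ Nd D y)
  refine ⟨hxa, hya, fun t ht => ?_⟩
  rcases (h.tri ha.1 hxa hya hxy).2 t ht with rfl | rfl | rfl
  · rfl
  · exact he.symm
  · have h1 := h.nd_conj_eq x he
    rw [h.inv_eq hx, h.sq hx, one_mul] at h1
    exact h1.symm

/-- A commuting pair and a member commuting with neither give a neighbour of the latter. -/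
theorem vmem {a d z : G} (ha : a ∈ D) (hd : d ∈ Nd D a) (hz : z ∈ D) (hza : ¬ Commute z a) (hzd : ¬ Commute z d) :
    a * d * z * (a * d) ∈ Nd D z := by
  have had : a * d = d * a := hd.2.2.eq
  have b1 := h.braid ha hz fun c => hza c.symm
  have b2 := h.braid hd.1 hz fun c => hzd c.symm
  have hsa := h.sq ha
  have hsd := h.sq hd.1
  have hsz := h.sq hz
  have hv : a * d * z * (a * d) = a * (d * z * d) * a := by
    calc a * d * z * (a * d) = a * d * z * (d * a) := by rw [had]
      _ = _ := by group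
  have hw : (a * z * a) * (d * z * d) = (d * z * d) * (a * z * a) := by
    rw [b1, b2]
    calc z * a * z * (z * d * z) = z * a * (z * z) * d * z := by group
      _ = z * (a * d) * z := by rw [hsz]; group
      _ = z * (d * a) * z := by rw [had]
      _ = z * d * (z * z) * a * z := by rw [hsz]; group
      _ = z * d * z * (z * a * z) := by group
  refine ⟨?_, ?_, ?_⟩
  · rw [hv]; exact h.conjD ha (h.conjD hd.1 hz)
  · intro e
    rw [hv] at e
    have e1 : d * z * d = a * z * a := by
      calc d * z * d = (a * a) * (d * z * d) * (a * a) := by rw [hsa]; group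
        _ = a * (a * (d * z * d) * a) * a := by group
        _ = a * z * a := by rw [e]
    rw [b1, b2] at e1
    exact hd.2.1 (mul_left_cancel (mul_right_cancel e1))
  · rw [hv]
    show z * (a * (d * z * d) * a) = a * (d * z * d) * a * z
    have hz' : z = a * (a * z * a) * a := by
      calc z = (a * a) * z * (a * a) := by rw [hsa]; group
        _ = _ := by group
    calc z * (a * (d * z * d) * a) = a * (a * z * a) * a * (a * (d * z * d) * a) := by rw [← hz']
      _ = a * (a * z * a) * (a * a) * (d * z * d) * a := by group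
      _ = a * ((a * z * a) * (d * z * d)) * a := by rw [hsa]; group
      _ = a * ((d * z * d) * (a * z * a)) * a := by rw [hw]
      _ = a * (d * z * d) * a * (z * (a * a)) := by group
      _ = a * (d * z * d) * a * z := by rw [hsa, mul_one]

theorem not_commute_prod {a b z : G} (ha : a ∈ D) (hb : b ∈ D) (hz : z ∈ D) (hab : a ≠ b)
    (hza : ¬ Commute z a) (hzb : ¬ Commute z b) : ¬ Commute (a * b) z := by
  intro hc
  refine hab ?_
  have e1 : a * z * a * (b * z * b) = a * b := by
    rw [h.braid ha hz fun c => hza c.symm, h.braid hb hz fun c => hzb c.symm]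
    calc z * a * z * (z * b * z) = z * (a * (z * z) * b) * z := by group
      _ = z * (a * b) * z := by rw [h.sq hz, mul_one]
      _ = a * b * (z * z) := by rw [← hc.eq, mul_assoc]
      _ = a * b := by rw [h.sq hz, mul_one]
  have e2 : z * (a * b) * z = 1 := by
    calc z * (a * b) * z = a⁻¹ * (a * z * a * (b * z * b)) * b⁻¹ := by group
      _ = 1 := by rw [e1]; group
  rw [← hc.eq, mul_assoc, h.sq hz, mul_one] at e2
  rw [← h.inv_eq hb]
  exact eq_inv_of_mul_eq_one_left e2

/-- Products inside one line permute every line. -/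
theorem move {x y z u : G} (hx : x ∈ D) (hy : y ∈ D) (hxy : x ≠ y) (he : Nd D x = Nd D y)
    (hz : z ∈ D) (hu : u ∈ D) (hzu : z ≠ u) (he' : Nd D z = Nd D u) :
    Nd D (x * y * z * (x * y)⁻¹) = Nd D z := by
  obtain ⟨a, ha, -⟩ := h.exists_pair hx
  obtain ⟨hxa, hya, hline⟩ := h.line hx hy hxy he ha
  have hxy' : (x * y)⁻¹ = y * x := by rw [mul_inv_rev, h.inv_eq hx, h.inv_eq hy]
  rw [hxy']
  by_cases hzl : z ∈ Nd D a
  · -- the same line
    have hc : ∀ {w}, w ∈ Nd D a → ∀ {g}, g ∈ Nd D a → g * w * g ∈ Nd D a := by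
      intro w hw g hg
      have := h.nd_conj g hw
      rw [h.inv_eq hg.1, ← hg.2.2.eq, mul_assoc, h.sq hg.1, mul_one] at this
      exact this
    have hm := hc (hc hzl hya) hxa
    rw [show x * y * z * (y * x) = x * (y * z * y) * x by group]
    rw [hline _ hm, hline _ hzl]
  by_cases hzx : z ∈ Nd D x
  · have hzy : z ∈ Nd D y := he ▸ hzx
    rw [mul_assoc x y z, hzy.2.2.eq, ← mul_assoc x z y, hzx.2.2.eq]
    congr 1
    calc z * x * y * (y * x) = z * x * (y * y) * x := by group
      _ = z * (x * x) := by rw [h.sq hy]; group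
      _ = z := by rw [h.sq hx, mul_one]
  have nzx : ¬ Commute z x := fun c => by
    by_cases e : z = x
    · exact hzl (e ▸ hxa)
    · exact hzx ⟨hz, e, c.symm⟩
  have nzy : ¬ Commute z y := fun c => by
    by_cases e : z = y
    · exact hzl (e ▸ hya)
    · exact hzx (he ▸ (⟨hz, e, c.symm⟩ : z ∈ Nd D y))
  have nza : ¬ Commute z a := fun c => by
    by_cases e : z = a
    · exact hzx (e ▸ ha)
    · exact hzl ⟨hz, e, c.symm⟩
  have v1 := h.vmem hx ha hz nzx nza
  have v2 := h.vmem hy (he ▸ ha) hz nzy nza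
  obtain ⟨hzv, -, hl⟩ := h.line hz hu hzu he' v1
  have hinv : (x * a)⁻¹ = x * a := by rw [mul_inv_rev, h.inv_eq ha.1, h.inv_eq hx, ha.2.2.eq]
  have hm := h.nd_conj (x * a) v2
  rw [hinv] at hm
  have hm' := hl _ hm
  convert hm' using 2
  have hya' : y * a = a * y := (he ▸ ha : a ∈ Nd D y).2.2.eq
  have hxa' : x * a = a * x := ha.2.2.eq
  symm
  calc x * a * (y * a * z * (y * a)) * (x * a) = x * a * (a * y * z * (y * a)) * (a * x) := by rw [hya', hxa']
    _ = x * (a * a) * y * z * y * (a * a) * x := by group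
    _ = x * y * z * (y * x) := by rw [h.sq ha.1]; group

/-- Products inside lines commute. -/
theorem line_commute {x y z u : G} (hx : x ∈ D) (hy : y ∈ D) (hxy : x ≠ y) (he : Nd D x = Nd D y)
    (hz : z ∈ D) (hu : u ∈ D) (hzu : z ≠ u) (he' : Nd D z = Nd D u) :
    Commute (x * y) (z * u) := by
  obtain ⟨v, hv, -⟩ := h.exists_pair hz
  obtain ⟨hzv, huv, -⟩ := h.line hz hu hzu he' hv
  obtain ⟨hnc, htri⟩ := h.tri hv.1 hzv huv hzu
  obtain ⟨a, ha, -⟩ := h.exists_pair hx
  obtain ⟨hxa, hya, -⟩ := h.line hx hy hxy he ha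
  have hth : (x * y) ^ 3 = 1 := h.cube hx hy (h.tri ha.1 hxa hya hxy).1
  set σ := MulAut.conj (x * y)
  have hmem : ∀ {w w'}, w ∈ D → w' ∈ D → w ≠ w' → Nd D w = Nd D w' → Nd D w = Nd D z → σ w ∈ Nd D v := by
    intro w w' hw hw' hne e1 e2
    have e3 := h.move hx hy hxy he hw hw' hne e1
    exact nd_symm (h.conj _ _ hw) (by show v ∈ Nd D (x * y * w * (x * y)⁻¹); rw [e3, e2]; exact hv)
  have h1 : σ z ∈ Nd D v := hmem hz hu hzu he' rfl
  have h2 : σ u ∈ Nd D v := hmem hu hz hzu.symm he'.symm he'.symm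
  have hfix : ∀ w, σ (σ w) = w → σ w = w := fun w e => by
    have e3 : σ (σ (σ w)) = w := by
      simp only [σ, MulAut.conj_apply]
      calc _ = (x * y) ^ 3 * w * ((x * y) ^ 3)⁻¹ := by simp only [pow_succ, pow_zero, one_mul]; group
        _ = w := by rw [hth]; group
    rwa [e] at e3
  have hcomm : σ (z * u) = z * u → Commute (x * y) (z * u) := fun e => by
    rw [MulAut.conj_apply, mul_inv_eq_iff_eq_mul] at e
    exact e
  have hsz := h.sq hz
  have hsu := h.sq hu
  have hb := h.braid hz hu hnc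
  have hw : σ (z * u * z) = σ z * σ u * σ z := by rw [map_mul, map_mul]
  refine hcomm ?_
  rw [map_mul]
  rcases htri _ h1 with e1 | e1 | e1 <;> rcases htri _ h2 with e2 | e2 | e2
  · exact absurd (σ.injective (e1.trans e2.symm)) hzu
  · rw [e1, e2]
  · have e3 : σ (σ u) = u := by
      rw [e2, hw, e1, e2]
      calc z * (z * u * z) * z = (z * z) * u * (z * z) := by group
        _ = u := by rw [hsz]; group
    rw [e1, hfix u e3]
  · have e3 := hfix z (by rw [e1, e2])
    exact absurd (e3.symm.trans e1) hzu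
  · exact absurd (σ.injective (e1.trans e2.symm)) hzu
  · rw [e1, e2]
    calc u * (z * u * z) = u * (u * z * u) := by rw [hb]
      _ = z * u := by rw [← mul_assoc, ← mul_assoc, hsu, one_mul]
  · rw [e1, e2, mul_assoc, hsz, mul_one]
  · have e3 : σ (σ z) = z := by
      rw [e1, hw, e1, e2]
      calc z * u * z * u * (z * u * z) = z * u * z * u * (u * z * u) := by rw [hb]
        _ = z * u * z * (u * u) * z * u := by group
        _ = z * u * (z * z) * u := by rw [hsu]; group
        _ = z * (u * u) := by rw [hsz]; group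
        _ = z := by rw [hsu, mul_one]
    have e4 := hfix z e3
    rw [e4, e2]
  · exact absurd (σ.injective (e1.trans e2.symm)) hzu

/-- The subgroup generated by products inside lines. -/
def linesSubgroup (_h : Loc D) : Subgroup G :=
  Subgroup.closure {g | ∃ x y, x ∈ D ∧ y ∈ D ∧ x ≠ y ∧ Nd D x = Nd D y ∧ g = x * y}

theorem lines_normal : h.linesSubgroup.Normal := by
  refine ⟨fun n hn g => ?_⟩
  suffices hle : h.linesSubgroup ≤ h.linesSubgroup.comap (MulAut.conj g).toMonoidHom by
    have := hle hn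
    rwa [Subgroup.mem_comap, MulEquiv.coe_toMonoidHom, MulAut.conj_apply] at this
  refine (Subgroup.closure_le _).2 fun x hx => Subgroup.subset_closure ?_
  show MulAut.conj g x ∈ _
  rw [MulAut.conj_apply]
  obtain ⟨p, q, hp, hq, hpq, he, rfl⟩ := hx
  exact ⟨g * p * g⁻¹, g * q * g⁻¹, h.conj g p hp, h.conj g q hq, fun e => hpq (by simpa using e),
      h.nd_conj_eq g he, by group⟩

theorem lines_comm {m n : G} (hm : m ∈ h.linesSubgroup) (hn : n ∈ h.linesSubgroup) : m * n = n * m := by
  haveI : IsMulCommutative h.linesSubgroup := Subgroup.isMulCommutative_closure (by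
    rintro _ ⟨x, y, hx, hy, hxy, he, rfl⟩ _ ⟨z, u, hz, hu, hzu, he', rfl⟩
    exact (h.line_commute hx hy hxy he hz hu hzu he').eq)
  exact congrArg Subtype.val (mul_comm' (⟨m, hm⟩ : h.linesSubgroup) ⟨n, hn⟩)

theorem lines_cube {n : G} (hn : n ∈ h.linesSubgroup) : n ^ 3 = 1 := by
  induction hn using Subgroup.closure_induction with
  | mem g hg =>
    obtain ⟨x, y, hx, hy, hxy, he, rfl⟩ := hg
    obtain ⟨a, ha, -⟩ := h.exists_pair hx
    obtain ⟨hxa, hya, -⟩ := h.line hx hy hxy he ha
    exact h.cube hx hy (h.tri ha.1 hxa hya hxy).1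
  | one => exact one_pow 3
  | mul p q hp hq ih1 ih2 =>
    have hc : Commute p q := h.lines_comm hp hq
    rw [hc.mul_pow, ih1, ih2, one_mul]
  | inv p _ ih => rw [inv_pow, ih, inv_one]

/-- The case of two triangles joined completely: nothing else is present. -/
theorem no_outside [Finite G]
    (hcore : ∀ d ∈ D, Nat.card (Cfsg.pCore 3 ↥(Subgroup.centralizer ({d} : Set G))) = 3)
    {d a b e : G} (hd : d ∈ D) (ha : a ∈ Nd D d) (hb : b ∈ Nd D d) (hab : a ≠ b) (heab : Nd D a = Nd D b)
    (he : e ∈ Nd D a) (hde : d ≠ e) (hede : Nd D d = Nd D e) : D ⊆ Nd D d ∪ Nd D a := by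
  intro z hz
  by_contra hout
  rw [Set.mem_union, not_or] at hout
  have hza : ¬ Commute z a := fun c => by
    by_cases e1 : z = a
    · exact hout.1 (e1 ▸ ha)
    · exact hout.2 ⟨hz, e1, c.symm⟩
  have hzd : ¬ Commute z d := fun c => by
    by_cases e1 : z = d
    · exact hout.2 (e1 ▸ nd_symm hd ha)
    · exact hout.1 ⟨hz, e1, c.symm⟩
  set N := h.linesSubgroup with hN
  haveI : N.Normal := h.lines_normal
  have hconjN : ∀ {g n}, n ∈ N → g * n * g⁻¹ ∈ N := fun {g n} hn => Subgroup.Normal.conj_mem inferInstance n hn g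
  have habN : a * b ∈ N := Subgroup.subset_closure ⟨a, b, ha.1, hb.1, hab, heab, rfl⟩
  have hab3 : (a * b) ^ 3 = 1 := h.lines_cube habN
  have hab1 : a * b ≠ 1 := fun e1 => hab (by rw [← h.inv_eq hb.1]; exact eq_inv_of_mul_eq_one_left e1)
  haveI : Fact (Nat.Prime 3) := ⟨Nat.prime_three⟩
  -- fixed points of `d` in `N`
  have hbound : ∀ n ∈ N, Commute d n → n ∈ Subgroup.zpowers (a * b) := by
    intro n hn hdn
    set C := Subgroup.centralizer ({d} : Set G)
    have hmemC : ∀ {g}, Commute d g → g ∈ C := fun {g} hg => Subgroup.mem_centralizer_singleton_iff.2 hg.symm.eq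
    set K := N.subgroupOf C
    have hK : IsPGroup 3 K := fun k => ⟨1, Subtype.ext (Subtype.ext (h.lines_cube (Subgroup.mem_subgroupOf.1 k.2)))⟩
    have hle : K ≤ Cfsg.pCore 3 C := CfsgLib.Coprime.le_pCore hK
    let θ : C := ⟨a * b, hmemC (ha.2.2.mul_right hb.2.2)⟩
    have hθK : θ ∈ K := Subgroup.mem_subgroupOf.2 habN
    have hθ3 : orderOf θ = 3 := orderOf_eq_prime (Subtype.ext hab3) fun e1 => hab1 (congrArg Subtype.val e1)
    have heq : Subgroup.zpowers θ = Cfsg.pCore 3 C :=
      Subgroup.eq_of_le_of_card_ge ((Subgroup.zpowers_le.2 hθK).trans hle)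
        (by rw [hcore d hd, Nat.card_zpowers, hθ3])
    have hnK : (⟨n, hmemC hdn⟩ : C) ∈ Subgroup.zpowers θ := heq ▸ hle (Subgroup.mem_subgroupOf.2 hn)
    obtain ⟨k, hk⟩ := Subgroup.mem_zpowers_iff.1 hnK
    exact ⟨k, congrArg Subtype.val hk⟩
  have had : a * d = d * a := ha.2.2.eq.symm
  have hia : (a * d)⁻¹ = a * d := by rw [mul_inv_rev, h.inv_eq ha.1, h.inv_eq hd, had]
  set ι := MulAut.conj (a * d)
  have hi1 : ι (a * b) = (a * b)⁻¹ := by
    rw [MulAut.conj_apply, hia, mul_inv_rev, h.inv_eq ha.1, h.inv_eq hb.1]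
    calc a * d * (a * b) * (a * d) = a * (d * a) * b * (a * d) := by group
      _ = a * (a * d) * b * (d * a) := by rw [had]
      _ = (a * a) * (d * b) * d * a := by group
      _ = b * (d * d) * a := by rw [h.sq ha.1, hb.2.2.eq]; group
      _ = b * a := by rw [h.sq hd, mul_one]
  have hi2 : ι (d * e) = (d * e)⁻¹ := by
    rw [MulAut.conj_apply, hia, mul_inv_rev, h.inv_eq he.1, h.inv_eq hd]
    calc a * d * (d * e) * (a * d) = a * (d * d) * e * (a * d) := by group
      _ = (a * e) * a * d := by rw [h.sq hd]; group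
      _ = e * (a * a) * d := by rw [he.2.2.eq]; group
      _ = e * d := by rw [h.sq ha.1, mul_one]
  -- `ad` inverts `N`
  have hinvN : ∀ n ∈ N, ι n = n⁻¹ := by
    intro n hn
    induction hn using Subgroup.closure_induction with
    | mem g hg =>
      obtain ⟨x, y, hx, hy, hxy, hxye, rfl⟩ := hg
      have hgN : x * y ∈ N := Subgroup.subset_closure ⟨x, y, hx, hy, hxy, hxye, rfl⟩
      have hmove := h.move hx hy hxy hxye hd he.1 hde hede
      generalize x * y = g at hgN hmove ⊢
      have hdgd : d * g * d ∈ N := by have := hconjN (g := d) hgN; rwa [h.inv_eq hd] at this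
      have h1 : g * (d * g * d) ∈ Subgroup.zpowers (a * b) := by
        refine hbound _ (mul_mem hgN hdgd) ?_
        show d * (g * (d * g * d)) = g * (d * g * d) * d
        have e1 := h.lines_comm hgN hdgd
        calc d * (g * (d * g * d)) = d * g * d * g * d := by group
          _ = g * (d * g * d) * d := by rw [← e1]
      have h2 : g * d * g⁻¹ * d ∈ Subgroup.zpowers (d * e) := by
        have e1 := hmove
        have ht : g * d * g⁻¹ ∈ Nd D a := nd_symm (h.conj g d hd) (by rw [e1]; exact ha)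
        rcases (h.tri ha.1 (nd_symm hd ha) he hde).2 _ ht with e2 | e2 | e2 <;> rw [e2]
        · rw [h.sq hd]; exact one_mem _
        · rw [show e * d = (d * e)⁻¹ by rw [mul_inv_rev, h.inv_eq he.1, h.inv_eq hd]]
          exact inv_mem (Subgroup.mem_zpowers _)
        · rw [mul_assoc _ d d, h.sq hd, mul_one]; exact Subgroup.mem_zpowers _
      have h4 : g * g = g * (d * g * d) * (g * d * g⁻¹ * d) := by
        have e1 : g * d * g⁻¹ * d = g * (d * g * d)⁻¹ := by rw [mul_inv_rev, mul_inv_rev, h.inv_eq hd]; group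
        rw [e1, ← mul_assoc, mul_assoc g (d * g * d) g, ← h.lines_comm hgN hdgd, ← mul_assoc g g,
          mul_inv_cancel_right]
      have hz1 : ∀ {m w}, ι m = m⁻¹ → w ∈ Subgroup.zpowers m → ι w = w⁻¹ := by
        intro m w hm hw
        obtain ⟨k, rfl⟩ := Subgroup.mem_zpowers_iff.1 hw
        rw [map_zpow, hm, inv_zpow]
      have hp1 : g * (d * g * d) ∈ N := mul_mem hgN hdgd
      have hp2 : g * d * g⁻¹ * d ∈ N := by
        rw [mul_assoc, mul_assoc]
        have := hconjN (g := d) (inv_mem hgN)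
        rw [h.inv_eq hd, mul_assoc] at this
        exact mul_mem hgN this
      have hgg : ι (g * g) = (g * g)⁻¹ := by
        rw [h4, map_mul ι (g * (d * g * d)) (g * d * g⁻¹ * d), hz1 hi1 h1, hz1 hi2 h2,
          mul_inv_rev (g * (d * g * d)), h.lines_comm (inv_mem hp1) (inv_mem hp2)]
      have h3 : g = g * g * (g * g) := by
        rw [show g * g * (g * g) = g ^ 3 * g by simp only [pow_succ, pow_zero, one_mul]; group, h.lines_cube hgN,
          one_mul]
      rw [h3, map_mul, hgg, ← mul_inv_rev]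
    | one => rw [map_one, inv_one]
    | mul p q hp hq ih1 ih2 => rw [map_mul, ih1, ih2, mul_inv_rev, h.lines_comm (inv_mem hp) (inv_mem hq)]
    | inv p _ ih => rw [map_inv, ih]
  -- `(az)^3 = (dz)^3 = 1` forces `ab` to be its own inverse
  have hflip : ∀ n ∈ N, d * n * d = (a * n * a)⁻¹ := by
    intro n hn
    have := hinvN n hn
    rw [MulAut.conj_apply, hia] at this
    calc d * n * d = a * a * (d * n * d) * (a * a) := by rw [h.sq ha.1]; group
      _ = a * (a * d * n * (d * a)) * a := by group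
      _ = a * n⁻¹ * a := by rw [← had, this]
      _ = (a * n * a)⁻¹ := by rw [mul_inv_rev, mul_inv_rev, h.inv_eq ha.1]; group
  have hstep : ∀ n ∈ N, MulAut.conj (d * z) n = (MulAut.conj (a * z) n)⁻¹ := by
    intro n hn
    simp only [MulAut.conj_apply, mul_inv_rev, h.inv_eq hd, h.inv_eq ha.1, h.inv_eq hz]
    have hznz : z * n * z ∈ N := by have := hconjN (g := z) hn; rwa [h.inv_eq hz] at this
    have := hflip _ hznz
    calc d * z * n * (z * d) = d * (z * n * z) * d := by group
      _ = (a * (z * n * z) * a)⁻¹ := this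
      _ = _ := by simp only [mul_inv_rev, inv_inv, h.inv_eq ha.1, h.inv_eq hz, mul_assoc]
  have h3a : (a * z) ^ 3 = 1 := h.cube ha.1 hz fun c => hza c.symm
  have h3d : (d * z) ^ 3 = 1 := h.cube hd hz fun c => hzd c.symm
  set σ := MulAut.conj (d * z)
  set τ := MulAut.conj (a * z)
  have hτN : ∀ {n}, n ∈ N → τ n ∈ N := fun {n} hn => by rw [MulAut.conj_apply]; exact hconjN hn
  have e3 : ∀ {g : G}, g ^ 3 = 1 → MulAut.conj g (MulAut.conj g (MulAut.conj g (a * b))) = a * b := by
    intro g hg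
    simp only [MulAut.conj_apply]
    calc _ = g ^ 3 * (a * b) * (g ^ 3)⁻¹ := by simp only [pow_succ, pow_zero, one_mul]; group
      _ = a * b := by rw [hg]; group
  have h1 := e3 h3d
  rw [hstep _ habN, map_inv, hstep _ (hτN habN), inv_inv, hstep _ (hτN (hτN habN)), e3 h3a] at h1
  have h2 : (a * b) * (a * b) = 1 := by nth_rw 1 [← h1]; exact inv_mul_cancel _
  rw [pow_succ, pow_two, h2, one_mul] at hab3
  exact hab1 hab3

end Loc

end CfsgLib.Invol.LocalSymThree
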