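/-
Three-transposition sets whose local graph is the triangle of `S₃`: `S₅` or `S₃ × S₃`.
-/
import Cfsg.Agent.Lib.Invol.LocalSymThree.Basic

set_option autoImplicit false

namespace CfsgLib.Invol.LocalSymThree

open Loc (nd_symm)

set_option synthInstance.maxSize 100000 in
set_option synthInstance.maxHeartbeats 2000000 in
/-- The Petersen graph has no proper edge colouring with three colours. -/
theorem petersen_no_coloring :
    ∀ c0 : Fin 3, 
    ∀ c1 : Fin 3, c1 ≠ c0 → 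
    ∀ c2 : Fin 3, c2 ≠ c0 → c2 ≠ c1 → 
    ∀ c3 : Fin 3, c3 ≠ c2 → 
    ∀ c4 : Fin 3, c4 ≠ c2 → c4 ≠ c3 → 
    ∀ c5 : Fin 3, c5 ≠ c3 → 
    ∀ c6 : Fin 3, c6 ≠ c3 → c6 ≠ c5 → 
    ∀ c7 : Fin 3, c7 ≠ c1 → c7 ≠ c5 → 
    ∀ c8 : Fin 3, c8 ≠ c1 → c8 ≠ c7 → 
    ∀ c9 : Fin 3, c9 ≠ c4 → c9 ≠ c8 → 
    ∀ c10 : Fin 3, c10 ≠ c6 → c10 ≠ c8 → c10 ≠ c9 → 
    ∀ c11 : Fin 3, c11 ≠ c0 → c11 ≠ c6 → c11 ≠ c10 → 
    ∀ c12 : Fin 3, c12 ≠ c4 → c12 ≠ c9 → 
    ∀ c13 : Fin 3, c13 ≠ c5 → c13 ≠ c7 → c13 ≠ c12 → 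
    ∀ c14 : Fin 3, c14 ≠ c0 → c14 ≠ c11 → c14 ≠ c12 → c14 ≠ c13 → False := by decide +kernel

/-- The transposition of a pair. -/
def sw (p : Fin 5 × Fin 5) : Equiv.Perm (Fin 5) := Equiv.swap p.1 p.2

theorem exists_perm_three : ∀ i j k : Fin 5, i ≠ j → j ≠ k → i ≠ k →
    ∃ g : Equiv.Perm (Fin 5), g 0 = i ∧ g 1 = j ∧ g 2 = k := by decide +kernel

theorem exists_perm_four : ∀ i j k l : Fin 5, i ≠ j → i ≠ k → i ≠ l → j ≠ k → j ≠ l → k ≠ l →
    ∃ g : Equiv.Perm (Fin 5), g 0 = i ∧ g 1 = j ∧ g 3 = k ∧ g 4 = l := by decide +kernel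

theorem exists_fifth : ∀ i j : Fin 5, i ≠ j → ∃ k l m : Fin 5, k ≠ l ∧ k ≠ m ∧ l ≠ m ∧ i ≠ k ∧ i ≠ l ∧ i ≠ m ∧
    j ≠ k ∧ j ≠ l ∧ j ≠ m := by decide +kernel

theorem perm_three_prod_center {A : Type*} [Group A] (e : A ≃* Equiv.Perm (Fin 3)) {x : A}
    (hx : ∀ y, x * y = y * x) : x = 1 :=
  e.injective ((perm_three_center (e x) fun s => by
    obtain ⟨y, rfl⟩ := e.surjective s
    rw [← map_mul, hx, map_mul]).trans (map_one e).symm)

variable {G : Type*} [Group G] {D : Set G} (h : Loc D)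

include h in
/-- Two triangles joined completely. -/
theorem equiv_square [Finite G] (hcore : ∀ d ∈ D, Nat.card (Cfsg.pCore 3 ↥(Subgroup.centralizer ({d} : Set G))) = 3)
    {d a b e : G} (hd : d ∈ D) (ha : a ∈ Nd D d) (hb : b ∈ Nd D d) (hab : a ≠ b) (he : e ∈ Nd D a)
    (he' : e ∈ Nd D b) (hed : e ≠ d) :
    Nonempty (↥(Subgroup.closure D) ≃* Equiv.Perm (Fin 3) × Equiv.Perm (Fin 3)) := by
  have hNab : Nd D a = Nd D b := by
    have key : ∀ {u v}, u ∈ Nd D d → v ∈ Nd D d → e ∈ Nd D u → e ∈ Nd D v → Nd D u ⊆ Nd D v := by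
      intro u v hu hv heu hev t ht
      rcases (h.tri hu.1 (nd_symm hd hu) heu hed.symm).2 t ht with rfl | rfl | rfl
      · exact nd_symm hd hv
      · exact hev
      · have := h.nd_conj d hev
        rwa [h.inv_eq hd, show d * v * d = v by rw [hv.2.2.eq, mul_assoc, h.sq hd, mul_one]] at this
    exact Set.Subset.antisymm (key ha hb he he') (key hb ha he' he)
  obtain ⟨-, -, hline⟩ := h.line ha.1 hb.1 hab hNab (nd_symm hd ha)
  -- `e` and `d` share their commuting set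
  have hNde : Nd D d = Nd D e := by
    have hle : ∀ {u v}, u ∈ D → v ∈ D → a ∈ Nd D u → b ∈ Nd D u → a ∈ Nd D v → b ∈ Nd D v → Nd D u ⊆ Nd D v := by
      intro u v hu hv hau hbu hav hbv t ht
      rcases (h.tri hu hau hbu hab).2 t ht with rfl | rfl | rfl
      · exact hav
      · exact hbv
      · have := h.nd_conj a hbv
        rwa [h.inv_eq ha.1, show a * v * a = v by rw [← hav.2.2.eq, mul_assoc, h.sq ha.1, mul_one]] at this
    exact Set.Subset.antisymm (hle hd he.1 ha hb (nd_symm ha.1 he) (nd_symm hb.1 he'))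
      (hle he.1 hd (nd_symm ha.1 he) (nd_symm hb.1 he') ha hb)
  have hD : D ⊆ Nd D d ∪ Nd D a := h.no_outside hcore hd ha hb hab hNab he hed.symm hNde
  set H := Subgroup.closure (Nd D d)
  set K := Subgroup.closure (Nd D a)
  have hHK : H ≤ Subgroup.centralizer (K : Set G) := by
    rw [Subgroup.closure_le]
    intro x hx
    rw [SetLike.mem_coe, Subgroup.centralizer_closure, Subgroup.mem_centralizer_iff]
    intro y hy
    rw [← hline x hx] at hy
    exact hy.2.2.eq.symm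
  have hcomm : ∀ (m : H) (n : K), Commute (H.subtype m) (K.subtype n) := fun m n =>
    (Subgroup.mem_centralizer_iff.1 (hHK m.2) n.1 n.2).symm
  let f : H × K →* G := MonoidHom.noncommCoprod H.subtype K.subtype hcomm
  obtain ⟨e1⟩ := h.loc d hd
  obtain ⟨e2⟩ := h.loc a ha.1
  have hinj : Function.Injective f := by
    rw [injective_iff_map_eq_one]
    rintro ⟨m, n⟩ hmn
    have hmn' : (m : G) * n = 1 := hmn
    have hm : m = 1 := perm_three_prod_center e1 fun y => Subtype.ext (by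
      have hm' : (m : G) = (n : G)⁻¹ := eq_inv_of_mul_eq_one_left hmn'
      show (m : G) * y = y * m
      rw [hm']
      exact (Commute.inv_left (hcomm y n).symm).eq)
    have hn : n = 1 := Subtype.ext (by simpa [hm] using hmn')
    rw [hm, hn]; rfl
  have hrange : f.range = Subgroup.closure D := by
    refine le_antisymm ?_ ((Subgroup.closure_le _).2 fun x hx => ?_)
    · rintro _ ⟨⟨m, n⟩, rfl⟩
      exact mul_mem ((Subgroup.closure_mono fun _ hx => hx.1) m.2) ((Subgroup.closure_mono fun _ hx => hx.1) n.2)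
    · rcases hD hx with h1 | h1
      · exact ⟨(⟨x, Subgroup.subset_closure h1⟩, 1), mul_one x⟩
      · exact ⟨(1, ⟨x, Subgroup.subset_closure h1⟩), one_mul x⟩
  exact ⟨((MulEquiv.subgroupCongr hrange.symm).trans (MonoidHom.ofInjective hinj).symm).trans (e1.prodCongr e2)⟩

include h in
/-- No four-cycle of commuting members: the group is `S₅`. -/
theorem equiv_five (hno : ∀ d a b e, d ∈ D → a ∈ Nd D d → b ∈ Nd D d → a ≠ b → e ∈ Nd D a → e ∈ Nd D b → e = d)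
    {d : G} (hd : d ∈ D) : Nonempty (↥(Subgroup.closure D) ≃* Equiv.Perm (Fin 5)) := by
  obtain ⟨a, ha, b, hb, hab⟩ := h.exists_pair hd
  obtain ⟨e, he, hed⟩ : ∃ e ∈ Nd D a, e ≠ d := by
    obtain ⟨x, hx, y, hy, hxy⟩ := h.exists_pair ha.1
    by_cases e1 : x = d
    · exact ⟨y, hy, fun e2 => hxy (e1.trans e2.symm)⟩
    · exact ⟨x, hx, e1⟩
  set c := a * b * a with hc_def
  have hc : c ∈ Nd D d := by
    have := h.nd_conj a hb
    rwa [h.inv_eq ha.1, show a * d * a = d by rw [← ha.2.2.eq, mul_assoc, h.sq ha.1, mul_one]] at this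
  have nab := (h.tri hd ha hb hab).1
  have hac : a ≠ c := fun e1 => hab (by
    have e2 : a * b = 1 := mul_right_cancel (b := a) (by rw [one_mul]; exact e1.symm)
    exact (eq_inv_of_mul_eq_one_left e2).trans (h.inv_eq hb.1))
  have nac := (h.tri hd ha hc hac).1
  have nde := (h.tri ha.1 (nd_symm hd ha) he hed.symm).1
  have nce : ¬ Commute c e := fun k => by
    by_cases e1 : e = c
    · exact nac (e1 ▸ he.2.2)
    · exact hed (hno d a c e hd ha hc hac he ⟨he.1, e1, k⟩)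
  have f0 : ∀ {x y : G}, x ∈ D → y ∈ D → ¬ Commute x y → (x * y) ^ 3 = 1 ∧ (y * x) ^ 3 = 1 :=
    fun hx hy k => ⟨h.cube hx hy k, h.cube hy hx fun k' => k k'.symm⟩
  have f1 : ∀ {x y : G}, x ∈ D → y ∈ D → Commute x y → (x * y) ^ 2 = 1 ∧ (y * x) ^ 2 = 1 := fun {x y} hx hy k => by
    constructor
    · rw [k.mul_pow, pow_two, pow_two, h.sq hx, h.sq hy, one_mul]
    · rw [k.symm.mul_pow, pow_two, pow_two, h.sq hx, h.sq hy, one_mul]
  let f : Fin 4 → G := ![a, c, e, d]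
  have hliftable : (CoxeterMatrix.A 4).IsLiftable f := by
    intro i j
    fin_cases i <;> fin_cases j <;> simp [CoxeterMatrix.A, f, h.sq ha.1, h.sq hc.1, h.sq he.1, h.sq hd,
      (f0 ha.1 hc.1 nac).1, (f0 ha.1 hc.1 nac).2, (f0 hc.1 he.1 nce).1, (f0 hc.1 he.1 nce).2,
      (f0 he.1 hd fun k => nde k.symm).1, (f0 he.1 hd fun k => nde k.symm).2,
      (f1 ha.1 he.1 he.2.2).1, (f1 ha.1 he.1 he.2.2).2, (f1 ha.1 hd ha.2.2.symm).1, (f1 ha.1 hd ha.2.2.symm).2,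
      (f1 hc.1 hd hc.2.2.symm).1, (f1 hc.1 hd hc.2.2.symm).2]
  obtain ⟨cs, hcs⟩ := CfsgLib.Perm.Groups.exists_coxeterSystem_sym 4
  let φ : Equiv.Perm (Fin 5) →* G := cs.lift ⟨f, hliftable⟩
  have hφ : ∀ i : Fin 4, φ (Equiv.swap i.castSucc i.succ) = f i := fun i => by
    rw [← hcs i]; exact cs.lift_apply_simple hliftable i
  have h01 : φ (Equiv.swap 0 1) = a := hφ 0
  have h12 : φ (Equiv.swap 1 2) = c := hφ 1
  have h34 : φ (Equiv.swap 3 4) = d := hφ 3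
  have hswapconj : ∀ (g : Equiv.Perm (Fin 5)) i j, g * Equiv.swap i j * g⁻¹ = Equiv.swap (g i) (g j) :=
    fun g i j => by rw [Equiv.swap_apply_apply]
  have hmem : ∀ i j : Fin 5, i ≠ j → φ (Equiv.swap i j) ∈ D := fun i j hij => by
    obtain ⟨k, -, -, -, -, -, hik, -, -, hjk, -, -⟩ := exists_fifth i j hij
    obtain ⟨g, hg0, hg1, -⟩ := exists_perm_three i j k hij hjk hik
    rw [← hg0, ← hg1, ← hswapconj, map_mul, map_mul, map_inv, h01]
    exact h.conj _ _ ha.1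
  have hadj : ∀ i j k : Fin 5, i ≠ j → j ≠ k → i ≠ k →
      ¬ Commute (φ (Equiv.swap i j)) (φ (Equiv.swap j k)) := fun i j k h1 h2 h3 k' => by
    obtain ⟨g, rfl, rfl, rfl⟩ := exists_perm_three i j k h1 h2 h3
    rw [← hswapconj, ← hswapconj, map_mul, map_mul, map_mul, map_mul, map_inv, h01, h12] at k'
    exact nac ((Commute.conj_iff _).1 k')
  have hdis : ∀ i j k l : Fin 5, i ≠ j → i ≠ k → i ≠ l → j ≠ k → j ≠ l → k ≠ l →
      φ (Equiv.swap i j) ∈ Nd D (φ (Equiv.swap k l)) := fun i j k l h1 h2 h3 h4 h5 h6 => by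
    obtain ⟨g, rfl, rfl, rfl, rfl⟩ := exists_perm_four i j k l h1 h2 h3 h4 h5 h6
    rw [← hswapconj, ← hswapconj, map_mul, map_mul, map_mul, map_mul, map_inv, h01, h34]
    exact h.nd_conj _ ha
  set T : Set G := {t | ∃ i j : Fin 5, i ≠ j ∧ t = φ (Equiv.swap i j)}
  have hclosed : ∀ t ∈ T, Nd D t ⊆ T := by
    rintro _ ⟨i, j, hij, rfl⟩ z hz
    obtain ⟨k, l, m, hkl, hkm, hlm, hik, hil, him, hjk, hjl, hjm⟩ := exists_fifth i j hij
    have x1 := hdis k l i j hkl hik.symm hjk.symm hil.symm hjl.symm hij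
    have x2 := hdis k m i j hkm hik.symm hjk.symm him.symm hjm.symm hij
    rcases (h.tri (hmem i j hij) x1 x2 (fun e1 => hadj l k m hkl.symm hkm hlm (by
      rw [Equiv.swap_comm l k, e1]))).2 z hz with rfl | rfl | rfl
    · exact ⟨k, l, hkl, rfl⟩
    · exact ⟨k, m, hkm, rfl⟩
    · refine ⟨l, m, hlm, ?_⟩
      rw [← map_mul, ← map_mul]
      have := hswapconj (Equiv.swap k l) k m
      rw [Equiv.swap_inv, Equiv.swap_apply_left, Equiv.swap_apply_of_ne_of_ne hkm.symm hlm.symm] at this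
      rw [this]
  have hTD : T ⊆ D := by rintro _ ⟨i, j, hij, rfl⟩; exact hmem i j hij
  have hDT : D ⊆ T := by
    intro z hz
    by_contra hzT
    have hznc : ∀ i j : Fin 5, i ≠ j → ¬ Commute z (φ (Equiv.swap i j)) := fun i j hij k => by
      by_cases e1 : z = φ (Equiv.swap i j)
      · exact hzT ⟨i, j, hij, e1⟩
      · exact hzT (hclosed _ ⟨i, j, hij, rfl⟩ ⟨hz, e1, k.symm⟩)
    obtain ⟨x, hx, y, hy, hxy⟩ := h.exists_pair hz
    have htri := (h.tri hz hx hy hxy).2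
    classical
    let col : Fin 5 × Fin 5 → Fin 5 × Fin 5 → Fin 3 := fun p q =>
      if φ (sw p * sw q) * z * (φ (sw p * sw q))⁻¹ = x then 0
      else if φ (sw p * sw q) * z * (φ (sw p * sw q))⁻¹ = y then 1 else 2
    have hv : ∀ p q : Fin 5 × Fin 5, p.1 ≠ p.2 → q.1 ≠ q.2 → p.1 ≠ q.1 → p.1 ≠ q.2 → p.2 ≠ q.1 → p.2 ≠ q.2 →
        φ (sw p * sw q) * z * (φ (sw p * sw q))⁻¹ ∈ Nd D z := by
      intro p q h1 h2 h3 h4 h5 h6
      have hq := hdis q.1 q.2 p.1 p.2 h2 h3.symm h5.symm h4.symm h6.symm h1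
      have hv := h.vmem (hmem p.1 p.2 h1) hq hz (hznc _ _ h1) (hznc _ _ h2)
      have hinv : (φ (sw p * sw q))⁻¹ = φ (sw p * sw q) := by
        rw [map_mul, mul_inv_rev, h.inv_eq (show φ (sw q) ∈ D from hmem _ _ h2),
          h.inv_eq (show φ (sw p) ∈ D from hmem _ _ h1)]
        exact hq.2.2.eq.symm
      rw [hinv, map_mul]
      exact hv
    have ne : ∀ a b m P Q R S : Fin 5 × Fin 5, (a.1 ≠ a.2 ∧ b.1 ≠ b.2 ∧ m.1 ≠ m.2 ∧
        sw a ≠ sw b ∧ P.1 ≠ P.2 ∧ Q.1 ≠ Q.2 ∧ R.1 ≠ R.2 ∧ S.1 ≠ S.2 ∧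
        P.1 ≠ Q.1 ∧ P.1 ≠ Q.2 ∧ P.2 ≠ Q.1 ∧ P.2 ≠ Q.2 ∧ R.1 ≠ S.1 ∧ R.1 ≠ S.2 ∧ R.2 ≠ S.1 ∧ R.2 ≠ S.2 ∧
        sw P * sw Q = sw m * sw a ∧ sw R * sw S = sw m * sw b ∧ a.1 ≠ m.1 ∧ a.1 ≠ m.2 ∧ a.2 ≠ m.1 ∧ a.2 ≠ m.2 ∧
        b.1 ≠ m.1 ∧ b.1 ≠ m.2 ∧ b.2 ≠ m.1 ∧ b.2 ≠ m.2) → col P Q ≠ col R S := by
      intro a b m P Q R S
      rintro ⟨ha', hb', hm', hne, hP, hQ, hR, hS, n1, n2, n3, n4, n5, n6, n7, n8, ePQ, eRS, m1, m2, m3, m4, l1, l2, l3, l4⟩ hcol
      have hPQ := hv P Q hP hQ n1 n2 n3 n4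
      have hRS := hv R S hR hS n5 n6 n7 n8
      have heq : φ (sw P * sw Q) * z * (φ (sw P * sw Q))⁻¹ = φ (sw R * sw S) * z * (φ (sw R * sw S))⁻¹ := by
        simp only [col] at hcol
        rcases htri _ hPQ with e1 | e1 | e1 <;> rcases htri _ hRS with e2 | e2 | e2
        all_goals rw [e1, e2] at hcol ⊢
        all_goals simp [hxy, hxy.symm] at hcol ⊢
        all_goals split_ifs at hcol <;> simp_all
      rw [ePQ, eRS, map_mul, map_mul] at heq
      set A := φ (sw a) with hA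
      set B := φ (sw b) with hB
      have hAD : A ∈ D := hmem _ _ ha'
      have hBD : B ∈ D := hmem _ _ hb'
      have hABne : A ≠ B := by
        by_cases e1 : a.1 = b.1
        · intro e2
          refine hadj a.2 a.1 b.2 ha'.symm (e1 ▸ hb') ?_ ?_
          · exact fun e3 => hne (by rw [sw, sw, e1, e3])
          · rw [Equiv.swap_comm a.2 a.1, show φ (Equiv.swap a.1 b.2) = φ (Equiv.swap a.1 a.2) by
              rw [e1]; exact e2.symm.trans (by rw [hA, sw, e1])]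
        by_cases e3 : a.1 = b.2
        · intro e2
          refine hadj a.2 a.1 b.1 ha'.symm (e3 ▸ hb'.symm) ?_ ?_
          · exact fun e4 => hne (by rw [sw, sw, e3, e4, Equiv.swap_comm])
          · rw [Equiv.swap_comm a.2 a.1, show φ (Equiv.swap a.1 b.1) = φ (Equiv.swap a.1 a.2) by
              rw [e3, Equiv.swap_comm b.2 b.1]; exact e2.symm.trans (by rw [hA, sw, e3])]
        by_cases e5 : a.2 = b.1
        · intro e2
          refine hadj a.1 a.2 b.2 ha' (e5 ▸ hb') e3 ?_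
          rw [show φ (Equiv.swap a.2 b.2) = φ (Equiv.swap a.1 a.2) by rw [e5]; exact e2.symm.trans (by rw [hA, sw, e5])]
        by_cases e7 : a.2 = b.2
        · intro e2
          refine hadj a.1 a.2 b.1 ha' (e7 ▸ hb'.symm) e1 ?_
          rw [show φ (Equiv.swap a.2 b.1) = φ (Equiv.swap a.1 a.2) by
            rw [e7, Equiv.swap_comm b.2 b.1]; exact e2.symm.trans (by rw [hA, sw, e7])]
        exact fun e9 => (hdis a.1 a.2 b.1 b.2 ha' e1 e3 e5 e7 hb').2.1 e9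
      refine h.not_commute_prod hBD hAD hz hABne.symm (hznc _ _ hb') (hznc _ _ ha') ?_
      have e3 : A * z * A⁻¹ = B * z * B⁻¹ := by
        have := congrArg (fun g => (φ (sw m))⁻¹ * g * φ (sw m)) heq
        simpa [mul_assoc] using this
      rw [h.inv_eq hAD, h.inv_eq hBD] at e3
      show B * A * z = z * (B * A)
      calc B * A * z = B * (A * z * A) * A := by
            have := h.sq hAD
            simp only [mul_assoc, this, mul_one]
        _ = B * (B * z * B) * A := by rw [e3]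
        _ = (B * B) * z * (B * A) := by group
        _ = z * (B * A) := by rw [h.sq hBD, one_mul]
    exact petersen_no_coloring
      (col (0, 1) (2, 3))
      (col (0, 1) (2, 4))
      (ne (2, 4) (2, 3) (0, 1) (0, 1) (2, 4) (0, 1) (2, 3) (by decide +kernel))
      (col (0, 1) (3, 4))
      (ne (3, 4) (2, 3) (0, 1) (0, 1) (3, 4) (0, 1) (2, 3) (by decide +kernel))
      (ne (3, 4) (2, 4) (0, 1) (0, 1) (3, 4) (0, 1) (2, 4) (by decide +kernel))
      (col (0, 2) (3, 4))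
      (ne (0, 2) (0, 1) (3, 4) (0, 2) (3, 4) (0, 1) (3, 4) (by decide +kernel))
      (col (1, 2) (3, 4))
      (ne (1, 2) (0, 1) (3, 4) (1, 2) (3, 4) (0, 1) (3, 4) (by decide +kernel))
      (ne (1, 2) (0, 2) (3, 4) (1, 2) (3, 4) (0, 2) (3, 4) (by decide +kernel))
      (col (0, 2) (1, 3))
      (ne (1, 3) (3, 4) (0, 2) (0, 2) (1, 3) (0, 2) (3, 4) (by decide +kernel))
      (col (0, 2) (1, 4))
      (ne (1, 4) (3, 4) (0, 2) (0, 2) (1, 4) (0, 2) (3, 4) (by decide +kernel))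
      (ne (1, 4) (1, 3) (0, 2) (0, 2) (1, 4) (0, 2) (1, 3) (by decide +kernel))
      (col (1, 3) (2, 4))
      (ne (1, 3) (0, 1) (2, 4) (1, 3) (2, 4) (0, 1) (2, 4) (by decide +kernel))
      (ne (2, 4) (0, 2) (1, 3) (1, 3) (2, 4) (0, 2) (1, 3) (by decide +kernel))
      (col (0, 3) (2, 4))
      (ne (0, 3) (0, 1) (2, 4) (0, 3) (2, 4) (0, 1) (2, 4) (by decide +kernel))
      (ne (0, 3) (1, 3) (2, 4) (0, 3) (2, 4) (1, 3) (2, 4) (by decide +kernel))
      (col (0, 3) (1, 2))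
      (ne (0, 3) (3, 4) (1, 2) (0, 3) (1, 2) (1, 2) (3, 4) (by decide +kernel))
      (ne (1, 2) (2, 4) (0, 3) (0, 3) (1, 2) (0, 3) (2, 4) (by decide +kernel))
      (col (0, 3) (1, 4))
      (ne (0, 3) (0, 2) (1, 4) (0, 3) (1, 4) (0, 2) (1, 4) (by decide +kernel))
      (ne (1, 4) (2, 4) (0, 3) (0, 3) (1, 4) (0, 3) (2, 4) (by decide +kernel))
      (ne (1, 4) (1, 2) (0, 3) (0, 3) (1, 4) (0, 3) (1, 2) (by decide +kernel))
      (col (1, 4) (2, 3))
      (ne (1, 4) (0, 1) (2, 3) (1, 4) (2, 3) (0, 1) (2, 3) (by decide +kernel))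
      (ne (2, 3) (0, 2) (1, 4) (1, 4) (2, 3) (0, 2) (1, 4) (by decide +kernel))
      (ne (2, 3) (0, 3) (1, 4) (1, 4) (2, 3) (0, 3) (1, 4) (by decide +kernel))
      (col (0, 4) (1, 2))
      (ne (0, 4) (3, 4) (1, 2) (0, 4) (1, 2) (1, 2) (3, 4) (by decide +kernel))
      (ne (0, 4) (0, 3) (1, 2) (0, 4) (1, 2) (0, 3) (1, 2) (by decide +kernel))
      (col (0, 4) (1, 3))
      (ne (0, 4) (0, 2) (1, 3) (0, 4) (1, 3) (0, 2) (1, 3) (by decide +kernel))
      (ne (0, 4) (2, 4) (1, 3) (0, 4) (1, 3) (1, 3) (2, 4) (by decide +kernel))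
      (ne (1, 3) (1, 2) (0, 4) (0, 4) (1, 3) (0, 4) (1, 2) (by decide +kernel))
      (col (0, 4) (2, 3))
      (ne (0, 4) (0, 1) (2, 3) (0, 4) (2, 3) (0, 1) (2, 3) (by decide +kernel))
      (ne (0, 4) (1, 4) (2, 3) (0, 4) (2, 3) (1, 4) (2, 3) (by decide +kernel))
      (ne (2, 3) (1, 2) (0, 4) (0, 4) (2, 3) (0, 4) (1, 2) (by decide +kernel))
      (ne (2, 3) (1, 3) (0, 4) (0, 4) (2, 3) (0, 4) (1, 3) (by decide +kernel))
  have hinj : Function.Injective φ := by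
    rw [injective_iff_map_eq_one]
    intro g hg
    by_contra hg1
    obtain ⟨i, hi⟩ : ∃ i, g i ≠ i := by
      by_contra hc'
      push Not at hc'
      exact hg1 (Equiv.ext hc')
    obtain ⟨l, -, -, -, -, -, hil, -, -, hgl, -, -⟩ := exists_fifth i (g i) hi.symm
    have e1 : φ (Equiv.swap (g i) (g l)) = φ (Equiv.swap i l) := by
      rw [← hswapconj, map_mul, map_mul, map_inv, hg, inv_one, mul_one, one_mul]
    have hgil : g i ≠ g l := fun e2 => hil (g.injective e2)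
    have hgll : g i ≠ l := hgl
    by_cases e2 : g l = i
    · refine hadj l i (g i) hil.symm hi.symm hgll.symm ?_
      rw [Equiv.swap_comm i (g i), Equiv.swap_comm l i]
      nth_rw 3 [← e2]
      rw [e1]
    by_cases e3 : g l = l
    · refine hadj i l (g i) hil hgll.symm hi.symm ?_
      rw [Equiv.swap_comm l (g i)]
      nth_rw 2 [← e3]
      rw [e1]
    exact (hdis i l (g i) (g l) hil hi.symm (Ne.symm e2) hgll.symm (Ne.symm e3) hgil).2.1 e1.symm
  have hrange : φ.range = Subgroup.closure D := by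
    rw [MonoidHom.range_eq_map, ← Equiv.Perm.closure_isSwap, MonoidHom.map_closure]
    congr 1
    refine Set.Subset.antisymm ?_ fun t ht => ?_
    · rintro _ ⟨g, ⟨i, j, hij, rfl⟩, rfl⟩; exact hmem i j hij
    · obtain ⟨i, j, hij, rfl⟩ := hDT ht
      exact ⟨_, ⟨i, j, hij, rfl⟩, rfl⟩
  exact ⟨((MonoidHom.ofInjective hinj).trans (MulEquiv.subgroupCongr hrange)).symm⟩

/-- The theorem. -/
theorem classify [Finite G] {D : Set G} (hD : Cfsg.IsThreeTranspositionSet D)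
    (hconj : ∀ g : G, ∀ d ∈ D, g * d * g⁻¹ ∈ D) (hne : D.Nonempty)
    (hloc : ∀ d ∈ D, Nonempty (↥(Subgroup.closure {y : G | y ∈ D ∧ y ≠ d ∧ Commute d y}) ≃* Equiv.Perm (Fin 3)) ∧
      Nat.card (Cfsg.pCore 3 ↥(Subgroup.centralizer ({d} : Set G))) = 3) :
    Nonempty (↥(Subgroup.closure D) ≃* Equiv.Perm (Fin 5)) ∨
      Nonempty (↥(Subgroup.closure D) ≃* Equiv.Perm (Fin 3) × Equiv.Perm (Fin 3)) := by
  have h : Loc D := ⟨hD, hconj, fun d hd => (hloc d hd).1⟩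
  by_cases hA : ∃ d a b e, d ∈ D ∧ a ∈ Nd D d ∧ b ∈ Nd D d ∧ a ≠ b ∧ e ∈ Nd D a ∧ e ∈ Nd D b ∧ e ≠ d
  · obtain ⟨d, a, b, e, hd, ha, hb, hab, he, he', hed⟩ := hA
    exact Or.inr (equiv_square h (fun x hx => (hloc x hx).2) hd ha hb hab he he' hed)
  · obtain ⟨d, hd⟩ := hne
    refine Or.inl (equiv_five h (fun d a b e h1 h2 h3 h4 h5 h6 => ?_) hd)
    by_contra h7
    exact hA ⟨d, a, b, e, h1, h2, h3, h4, h5, h6, h7⟩

end CfsgLib.Invol.LocalSymThree
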